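import Groth.Agent.Lib.PicWittH7.Approx
import Groth.Agent.Lib.FGA3.FormalTriv
import Groth.Agent.Lib.PicLift3.Algebraize
import Groth.Agent.Lib.SheafVan16.Noetherian
import Groth.Agent.Lib.CohFound.ProperFinite
import Groth.Agent.Lib.SmDim19.Basic
import Groth.Agent.Lib.VarDim.Top

/-!
# Classes on a proper curve over a complete local ring
-/

set_option autoImplicit false
set_option linter.style.haveILetI false
set_option backward.isDefEq.respectTransparency false

universe u

open CategoryTheory CategoryTheory.Limits AlgebraicGeometry TopologicalSpace Opposite IsLocalRing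

noncomputable section

namespace Groth.Agent.PicWittH7

open CohB1

/-- A scheme smooth of relative dimension `n` over a field has dimension at most `n`. -/
theorem topologicalKrullDim_le_of_smooth {k : Type u} [Field k] {X : Scheme.{u}} (f : X ⟶ Spec (CommRingCat.of k))
    (n : ℕ) [SmoothOfRelativeDimension n f] : topologicalKrullDim X ≤ n := by
  haveI : Smooth f := SmoothOfRelativeDimension.smooth n f
  haveI : JacobsonSpace X := LocallyOfFiniteType.jacobsonSpace f
  have e : topologicalKrullDim X = Order.krullDim X := by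
    rw [VarDim.scheme_dim_eq_iSup_height, Order.krullDim_eq_iSup_height]
  rw [e, Order.krullDim_eq_iSup_coheight]
  refine iSup_le fun x => ?_
  obtain ⟨z, hz, hzc⟩ := nonempty_inter_closedPoints (X := X) (Z := closure ({x} : Set X))
    ⟨x, subset_closure rfl⟩ isClosed_closure.isLocallyClosed
  have h1 := SmDim19.ringKrullDim_stalk_of_isClosed f n hzc
  rw [ringKrullDim_stalk_eq_coheight] at h1
  rw [← h1]
  exact WithBot.coe_le_coe.2 (Order.coheight_anti (show z ≤ x from specializes_iff_mem_closure.2 hz))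

variable {A : Type u} [CommRing A] {X : Scheme.{u}} (f : X ⟶ Spec (CommRingCat.of A))

/-- All thickenings have the points of the closed fibre. -/
theorem range_thickι (I : Ideal A) (n : ℕ) :
    Set.range (thickι f I n) = Set.range (thickι f I 0) := by
  show Set.range (pullback.fst f (specQuot I n)) = Set.range (pullback.fst f (specQuot I 0))
  rw [Scheme.Pullback.range_fst, Scheme.Pullback.range_fst]
  congr 1
  have h : ∀ l, Set.range (specQuot I l) = PrimeSpectrum.zeroLocus (I : Set A) := fun l => by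
    refine (range_comap_of_surjective _ _ Ideal.Quotient.mk_surjective).trans ?_
    rw [Ideal.mk_ker, PrimeSpectrum.zeroLocus_pow _ (Nat.succ_ne_zero l)]
  rw [h, h]

theorem van2_thick [IsProper f] (I : Ideal A) [IsNoetherianRing A]
    (h : topologicalKrullDim (thick f I 0) ≤ (1 : ℕ)) (n : ℕ) : Van2 (thick f I n) := fun F => by
  haveI : IsProper (thickToBase f I n) := MorphismProperty.pullback_snd (P := @IsProper) _ _ inferInstance
  haveI := CohFound.isNoetherian_of_isProper (thickToBase f I n)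
  have hd : topologicalKrullDim (thick f I n) ≤ (1 : ℕ) := by
    let e : thick f I n ≃ₜ thick f I 0 :=
      ((thickι f I n).isClosedEmbedding.isEmbedding.toHomeomorph.trans
        (Homeomorph.setCongr (range_thickι f I n))).trans (thickι f I 0).isClosedEmbedding.isEmbedding.toHomeomorph.symm
    exact e.isInducing.topologicalKrullDim_le.trans h
  haveI : NoetherianSpace (thick f I n).toTopCat := inferInstanceAs (NoetherianSpace (thick f I n))
  refine SheafVan16.van_of_supp (X := (thick f I n).toTopCat) ⊤ 1 ?_ F (fun x hx => absurd trivial hx) 2 (by norm_num)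
  exact ((IsHomeomorph.topologicalKrullDim_eq _ (Homeomorph.Set.univ (thick f I n)).isHomeomorph).le.trans hd)

attribute [local instance] M2.law in
/-- Representatives of compatible classes, on any other model of the thickenings. -/
theorem exists_reps (I : Ideal A) [PicGrp.Law X] [∀ n, PicGrp.Law (thick f I n)]
    (hι : ∀ n, PicGrp.PullMul (thickι f I n)) (Ys : ℕ → Scheme.{u}) (ts : ∀ n, Ys n ⟶ Ys (n + 1))
    (i : ∀ n, Ys n ⟶ X) (hi : ∀ n, ts n ≫ i (n + 1) = i n) (u : ∀ n, Ys n ≅ thick f I n)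
    (hu : ∀ n, (u n).hom ≫ thickι f I n = i n) (x : ∀ n, PicLoc.PicSet (thick f I n))
    (hx : ∀ n, pt f I (Nat.le_succ n) (x (n + 1)) = x n) :
    ∃ L : ∀ n, (Ys n).Modules, (∀ n, PicF.IsInvertible (L n)) ∧
      (∀ n, Nonempty ((Scheme.Modules.pullback (ts n)).obj (L (n + 1)) ≅ L n)) ∧
      ∀ (n : ℕ) (M : X.Modules) (hM : PicF.IsInvertible M), Nonempty ((Scheme.Modules.pullback (i n)).obj M ≅ L n) →
        PicGrp.pullHom (thickι f I n) (hι n) (PicGrp.cls M hM) = x n := by
  let y : ∀ n, PicLoc.PicSet (Ys n) := fun n => PicGrp.pullHom (u n).hom (M2.pullMul _) (x n)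
  choose L hL hyL using fun n => PicGrp.exists_eq_cls (y n)
  refine ⟨L, hL, fun n => ?_, fun n M hM hn => pullHom_injective_of_isIso (u n).hom (M2.pullMul _) ?_⟩
  · have h : PicGrp.pullHom (ts n) (M2.pullMul _) (y (n + 1)) = y n := by
      show PicGrp.pullHom _ _ (PicGrp.pullHom _ _ (x (n + 1))) = PicGrp.pullHom _ _ (x n)
      rw [← hx n, pt, ← PicGrp.pullHom_comp_apply _ _ _ _ (M2.pullMul _),
        ← PicGrp.pullHom_comp_apply _ _ _ _ (M2.pullMul _)]
      refine Subtype.ext (congrArg (fun g => PicF.pullCl g (x (n + 1)).1) ?_)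
      rw [← cancel_mono (thickι f I (n + 1)), Category.assoc, Category.assoc, hu, tr_ι, hu, hi]
    rw [hyL (n + 1), hyL n, PicGrp.pullHom_cls, PicGrp.cls_eq_cls_iff] at h
    exact h
  · rw [← PicGrp.pullHom_comp_apply _ _ _ _ (M2.pullMul _)]
    refine Eq.trans ?_ (hyL n).symm
    rw [PicGrp.pullHom_cls, PicGrp.cls_eq_cls_iff]
    obtain ⟨e⟩ := hn
    exact ⟨(Scheme.Modules.pullbackCongr (hu n)).app M ≪≫ e⟩

section Local

variable [IsLocalRing A] [IsNoetherianRing A] [IsProper f] [PicGrp.Law X]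
  [∀ n, PicGrp.Law (thick f (maximalIdeal A) n)] (hι : ∀ n, PicGrp.PullMul (thickι f (maximalIdeal A) n))

theorem injProp : InjProp f (maximalIdeal A) hι := fun a ha => by
  obtain ⟨L, hL, rfl⟩ := PicGrp.exists_eq_cls a
  letI : X.Over (Spec (CommRingCat.of A)) := ⟨f⟩
  haveI : IsProper (X ↘ Spec (CommRingCat.of A)) := ‹IsProper f›
  refine (PicGrp.cls_eq_one_iff hL).2 (FGA3.nonempty_iso_of_trivial_thickenings (maximalIdeal A) le_rfl hL fun n => ?_)
  have h := ha n
  rw [PicGrp.pullHom_cls, PicGrp.cls_eq_one_iff] at h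
  exact h

theorem algProp [IsAdicComplete (maximalIdeal A) A] : AlgProp f (maximalIdeal A) hι := fun x hx => by
  haveI : IsLocallyNoetherian X := LocallyOfFiniteType.isLocallyNoetherian f
  let m := maximalIdeal A
  let 𝓘 := PicLift3.idl f
  let 𝔛 := FSch.completionAlong X 𝓘
  choose fs hfs using PicLift3.exists_level f
  obtain ⟨L, hL, he, hfin⟩ := exists_reps f m hι 𝔛.X 𝔛.ι (fun n => FSch.completionToX X 𝓘 n)
    (FSch.completionToX_comm X 𝓘) (fun n => (hfs n).isoPullback) (fun n => (hfs n).isoPullback_hom_fst) x hx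
  -- algebraization
  letI : X.Over (Spec (CommRingCat.of A)) := ⟨f⟩
  haveI : IsProper (X ↘ Spec (CommRingCat.of A)) := ‹IsProper f›
  let 𝔐 : FSch.ModSys 𝔛 := ⟨L, fun n => (he n).some⟩
  have hM : 𝔐.IsCoh := fun n => CubeField.isCoh_of_isInvertible (hL n)
  have hform : 𝔛.IsFormal := (FormalH7.isFormal_isAdic_completionAlong X 𝓘).1
  have hS := GExistH7.isSys_gSys m 𝓘 rfl 𝔐 hM
  obtain ⟨M, χ, hMc, hχ, hc⟩ := GExistH7.algAll_PS_main (X := X) m (GExistH7.gSys 𝓘 𝔐) hS
    (GExistH7.ps_sys hS ⟨M1.isClosed_support (hS.coh 0).2, inferInstance⟩)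
  obtain ⟨e⟩ := GExistH7.nonempty_iso_complMod m 𝓘 rfl hform 𝔐 hMc.1 χ hχ fun n => by
    rw [← GExistH7.gm_ofOpSequence (GExistH7.trG 𝓘 𝔐) n]; exact hc n
  have el : ∀ n, (Scheme.Modules.pullback (FSch.completionToX X 𝓘 n)).obj M ≅ L n := fun n =>
    ⟨e.inv.app n, e.hom.app n, congrArg (fun φ : FSch.complMod 𝓘 M ⟶ FSch.complMod 𝓘 M => φ.app n) e.inv_hom_id,
      congrArg (fun φ : 𝔐 ⟶ 𝔐 => φ.app n) e.hom_inv_id⟩
  have hMinv : PicF.IsInvertible M := (M2.isInvertible_iff_isFinLocFreeOfRank_one M).2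
    (FormalH7.isFinLocFreeOfRank_of_thickenings hMc.1 𝓘 (FormalH7.exists_closure_mem_support m f)
      fun n => (M2.isInvertible_iff_isFinLocFreeOfRank_one _).1 (Twist.isInvertible_of_iso (el n).symm (hL n)))
  exact ⟨PicGrp.cls M hMinv, fun n => hfin n M hMinv ⟨el n⟩⟩

end Local

end Groth.Agent.PicWittH7
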