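import Groth.Agent.Lib.PicWittH7.Levels

/-!
# Successive approximation of roots of classes trivial on a thickening
-/

set_option autoImplicit false
set_option linter.style.haveILetI false
set_option backward.isDefEq.respectTransparency false

universe u

open CategoryTheory CategoryTheory.Limits AlgebraicGeometry TopologicalSpace Opposite

noncomputable section

namespace Groth.Agent.PicWittH7

open CohB1

variable {A : Type u} [CommRing A] {X : Scheme.{u}} (f : X ⟶ Spec (CommRingCat.of A)) (I : Ideal A)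
  [∀ n, PicGrp.Law (thick f I n)] [PicGrp.Law X] (hι : ∀ n, PicGrp.PullMul (thickι f I n))

/-- Compatible classes on all levels come from `X`. -/
abbrev AlgProp : Prop :=
  ∀ x : ∀ n, PicLoc.PicSet (thick f I n), (∀ n, pt f I (Nat.le_succ n) (x (n + 1)) = x n) →
    ∃ a : PicLoc.PicSet X, ∀ n, PicGrp.pullHom (thickι f I n) (hι n) a = x n

/-- A class trivial on all levels is trivial. -/
abbrev InjProp : Prop :=
  ∀ a : PicLoc.PicSet X, (∀ n, PicGrp.pullHom (thickι f I n) (hι n) a = 1) → a = 1

variable (halg : AlgProp f I hι) (hv : ∀ n, Van2 (thick f I n))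

include halg hv in
theorem surjective_level (n : ℕ) : Function.Surjective (PicGrp.pullHom (thickι f I n) (hι n)) := fun b => by
  have hs : ∀ l, ∀ c, ∃ d, pt f I (Nat.le_succ l) d = c := fun l => pt_surjective f I _ (hv _)
  choose g hg using hs
  let e : ∀ k, PicLoc.PicSet (thick f I (n + k)) := fun k =>
    Nat.rec (motive := fun k => PicLoc.PicSet (thick f I (n + k))) b (fun k c => g (n + k) c) k
  have he : ∀ k, pt f I (Nat.le_succ (n + k)) (e (k + 1)) = e k := fun k => hg _ _
  obtain ⟨a, ha⟩ := halg (fun m => pt f I (show m ≤ n + m by omega) (e m)) fun m => by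
    rw [pt_pt, ← he m, pt_pt]
    rfl
  refine ⟨a, ?_⟩
  rw [ha n]
  have hk : ∀ k, pt f I (show n ≤ n + k by omega) (e k) = b := fun k => by
    induction k with
    | zero => exact pt_refl f I n b
    | succ k ih =>
      refine Eq.trans ?_ ih
      rw [← he k, pt_pt]
      rfl
  exact hk n

variable (p : A) (hI : I = Ideal.span {p}) (hinj : InjProp f I hι)

include halg hv hI hinj in
theorem exists_root {i q : ℕ} (hq : (q : A) = p ^ i) (a : PicLoc.PicSet X)
    (b : PicLoc.PicSet (thick f I (2 * i))) (hb : b ^ q = PicGrp.pullHom (thickι f I (2 * i)) (hι _) a) :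
    ∃ a' : PicLoc.PicSet X, a' ^ q = a := by
  let π := fun n => PicGrp.pullHom (thickι f I n) (hι n)
  have hπ : ∀ {m n : ℕ} (h : m ≤ n) (c : PicLoc.PicSet X), pt f I h (π n c) = π m c :=
    fun h c => pt_ι f I hι h c
  obtain ⟨b', hb'⟩ := surjective_level f I hι halg hv (2 * i) b
  let c := a / b' ^ q
  have hc : π (2 * i) c = 1 := by
    show π (2 * i) (a / b' ^ q) = 1
    rw [map_div, map_pow, show π (2 * i) b' = b from hb', hb, div_self']
  have hstep : ∀ m, 2 * i ≤ m → ∀ c : PicLoc.PicSet X, ∃ d : PicLoc.PicSet X,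
      π m c = 1 → π (m - i) d = 1 ∧ π (m + 1) (c / d ^ q) = 1 := fun m hm c => by
    by_cases h : π m c = 1
    · obtain ⟨d₀, hd₀, hd₁⟩ := exists_pow_level f I p hI hm q hq (hv _) (π (m + 1) c) (by rw [hπ]; exact h)
      obtain ⟨d, hd⟩ := surjective_level f I hι halg hv (m + 1) d₀
      refine ⟨d, fun _ => ⟨?_, ?_⟩⟩
      · rw [← hπ (show m - i ≤ m + 1 by omega), show π (m + 1) d = d₀ from hd]
        exact hd₁
      · rw [map_div, map_pow, show π (m + 1) d = d₀ from hd, hd₀, div_self']
    · exact ⟨1, fun h' => absurd h' h⟩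
  choose g hg using fun j => hstep (2 * i + j) (Nat.le_add_right _ _)
  let S : ℕ → PicLoc.PicSet X × PicLoc.PicSet X := fun j =>
    Nat.rec (1, c) (fun j P => (P.1 * g j P.2, P.2 / g j P.2 ^ q)) j
  have hrest : ∀ j, π (2 * i + j) (S j).2 = 1 := fun j => by
    induction j with
    | zero => exact hc
    | succ j ih => exact (hg j _ ih).2
  have hprod : ∀ j, (S j).1 ^ q * (S j).2 = c := fun j => by
    induction j with
    | zero => show 1 ^ q * c = c; rw [one_pow, one_mul]
    | succ j ih =>
      show ((S j).1 * g j (S j).2) ^ q * ((S j).2 / g j (S j).2 ^ q) = c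
      rw [mul_pow, mul_assoc, mul_div_cancel, ih]
  obtain ⟨D, hD⟩ := halg (fun m => π m (S m).1) fun m => by
    rw [hπ]
    show π m ((S m).1 * g m (S m).2) = π m (S m).1
    rw [map_mul, ← hπ (show m ≤ 2 * i + m - i by omega) (g m (S m).2), (hg m _ (hrest m)).1, map_one, mul_one]
  have hD1 : c / D ^ q = 1 := hinj _ fun m => by
    show π m (c / D ^ q) = 1
    rw [map_div, map_pow, show π m D = π m (S m).1 from hD m, ← map_pow, ← map_div, ← hprod m,
      mul_div_cancel_left, ← hπ (show m ≤ 2 * i + m by omega), hrest, map_one]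
  refine ⟨b' * D, ?_⟩
  rw [mul_pow, ← div_eq_one.1 hD1]
  exact mul_div_cancel _ _

end Groth.Agent.PicWittH7
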