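import Groth.Agent.Lib.PicWittH7.Step
import Groth.Agent.Lib.PicLift3.Algebraize
import Groth.Prelude.Def_CohB1

/-!
# Transition maps between thickenings
-/

set_option autoImplicit false
set_option linter.style.haveILetI false
set_option backward.isDefEq.respectTransparency false

universe u

open CategoryTheory CategoryTheory.Limits AlgebraicGeometry TopologicalSpace Opposite

noncomputable section

namespace Groth.Agent.PicWittH7

open FGA3 CohB1

variable {A : Type u} [CommRing A] {X : Scheme.{u}} (f : X ⟶ Spec (CommRingCat.of A)) (I : Ideal A)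

instance isClosedImmersion_specQuot (n : ℕ) : IsClosedImmersion (specQuot I n) :=
  IsClosedImmersion.spec_of_surjective _ Ideal.Quotient.mk_surjective

instance isClosedImmersion_thickι (n : ℕ) : IsClosedImmersion (thickι f I n) :=
  MorphismProperty.pullback_fst (P := @IsClosedImmersion) _ _ inferInstance

/-- The transition `X_m ⟶ X_n`. -/
def tr {m n : ℕ} (h : m ≤ n) : thick f I m ⟶ thick f I n :=
  pullback.map f (specQuot I m) f (specQuot I n) (𝟙 X)
    (Spec.map (CommRingCat.ofHom (Ideal.Quotient.factor (Ideal.pow_le_pow_right (Nat.succ_le_succ h))))) (𝟙 _)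
    (by simp) (by
      rw [Category.comp_id, specQuot, specQuot, ← Spec.map_comp]
      rfl)

theorem tr_ι {m n : ℕ} (h : m ≤ n) : tr f I h ≫ thickι f I n = thickι f I m :=
  (pullback.lift_fst _ _ _).trans (Category.comp_id _)

theorem tr_unique {m n : ℕ} (h : m ≤ n) (g : thick f I m ⟶ thick f I n) (hg : g ≫ thickι f I n = thickι f I m) :
    g = tr f I h := by rw [← cancel_mono (thickι f I n), hg, tr_ι]

theorem tr_tr {l m n : ℕ} (h : l ≤ m) (h' : m ≤ n) : tr f I h ≫ tr f I h' = tr f I (h.trans h') :=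
  tr_unique f I _ _ (by rw [Category.assoc, tr_ι, tr_ι])

theorem thickTrans_eq_tr (n : ℕ) : thickTrans f I n = tr f I (Nat.le_succ n) :=
  tr_unique f I _ _ ((pullback.lift_fst _ _ _).trans (Category.comp_id _))

theorem tr_refl (n : ℕ) : tr f I (le_refl n) = 𝟙 _ :=
  (tr_unique f I _ _ (Category.id_comp _)).symm

/-- The ideal of `A/I^{n+1}` cutting out level `m`. -/
abbrev lvl (m n : ℕ) : Ideal (A ⧸ I ^ (n + 1)) := (I ^ (m + 1)).map (Ideal.Quotient.mk (I ^ (n + 1)))

/-- `X_n ⊗ (A/I^{n+1})/I^{m+1}` is `X_m`. -/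
theorem exists_iso_level {m n : ℕ} (h : m ≤ n) :
    ∃ t : pullback (thickToBase f I n) (spQ (lvl I m n)) ≅ thick f I m,
      t.hom ≫ tr f I h = iq (thickToBase f I n) (lvl I m n) := by
  have h1 := (IsPullback.of_hasPullback (thickToBase f I n) (spQ (lvl I m n))).paste_horiz
    (IsPullback.of_hasPullback f (specQuot I n))
  have e : spQ (lvl I m n) ≫ specQuot I n = Spec.map (CommRingCat.ofHom
      ((Ideal.Quotient.mk (lvl I m n)).comp (Ideal.Quotient.mk (I ^ (n + 1))))) := by
    rw [specQuot, ← Spec.map_comp]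
    rfl
  rw [e] at h1
  have hk : RingHom.ker ((Ideal.Quotient.mk (lvl I m n)).comp (Ideal.Quotient.mk (I ^ (n + 1)))) =
      RingHom.ker (Ideal.Quotient.mk (I ^ (m + 1))) := by
    rw [← RingHom.comap_ker, Ideal.mk_ker, Ideal.mk_ker,
      Ideal.comap_map_of_surjective _ Ideal.Quotient.mk_surjective, ← RingHom.ker_eq_comap_bot, Ideal.mk_ker,
      sup_eq_left]
    exact Ideal.pow_le_pow_right (by omega)
  obtain ⟨t, ht⟩ := PicLift3.exists_iso_of_ker_eq
    (π := (Ideal.Quotient.mk (lvl I m n)).comp (Ideal.Quotient.mk (I ^ (n + 1))))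
    (Ideal.Quotient.mk_surjective.comp Ideal.Quotient.mk_surjective)
    Ideal.Quotient.mk_surjective hk h1 (IsPullback.of_hasPullback f (specQuot I m))
  refine ⟨t, ?_⟩
  rw [← cancel_mono (thickι f I n), Category.assoc, tr_ι]
  exact ht

variable [∀ n, PicGrp.Law (thick f I n)]

attribute [local instance] M2.law

theorem pullHom_injective_of_isIso {Y Z : Scheme.{u}} [PicGrp.Law Y] [PicGrp.Law Z] (g : Y ⟶ Z) [IsIso g]
    (h : PicGrp.PullMul g) : Function.Injective (PicGrp.pullHom g h) := fun a b hab => by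
  have e : ∀ c, PicGrp.pullHom (inv g) (M2.pullMul _) (PicGrp.pullHom g h c) = c := fun c => by
    rw [← PicGrp.pullHom_comp_apply (inv g) g (M2.pullMul _) h (M2.pullMul _)]
    refine Subtype.ext ?_
    rw [PicGrp.pullHom_apply_val, IsIso.inv_hom_id]
    exact PicLoc.pullCl_id c.1
  rw [← e a, hab, e b]

/-- Pull back of classes from level `n` to level `m`. -/
def pt {m n : ℕ} (h : m ≤ n) : PicLoc.PicSet (thick f I n) →* PicLoc.PicSet (thick f I m) :=
  PicGrp.pullHom (tr f I h) (M2.pullMul _)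

theorem pt_pt {l m n : ℕ} (h : l ≤ m) (h' : m ≤ n) (c : PicLoc.PicSet (thick f I n)) :
    pt f I h (pt f I h' c) = pt f I (h.trans h') c := by
  rw [pt, pt, ← PicGrp.pullHom_comp_apply _ _ _ _ (M2.pullMul _)]
  exact Subtype.ext (congrArg (fun g => PicF.pullCl g c.1) (tr_tr f I h h'))

theorem pt_ι [PicGrp.Law X] (hι : ∀ n, PicGrp.PullMul (thickι f I n)) {m n : ℕ} (h : m ≤ n) (a : PicLoc.PicSet X) :
    pt f I h (PicGrp.pullHom (thickι f I n) (hι n) a) = PicGrp.pullHom (thickι f I m) (hι m) a := by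
  rw [pt, ← PicGrp.pullHom_comp_apply _ _ _ _ (M2.pullMul _)]
  exact Subtype.ext (congrArg (fun g => PicF.pullCl g a.1) (tr_ι f I h))

theorem pt_refl (n : ℕ) (c : PicLoc.PicSet (thick f I n)) : pt f I (le_refl n) c = c :=
  Subtype.ext ((congrArg (fun g => PicF.pullCl g c.1) (tr_refl f I n)).trans (PicLoc.pullCl_id _))

theorem pt_eq_one_iff {m n : ℕ} (h : m ≤ n) (c : PicLoc.PicSet (thick f I n)) :
    pt f I h c = 1 ↔ PicGrp.pullHom (iq (thickToBase f I n) (lvl I m n)) (M2.pullMul _) c = 1 := by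
  obtain ⟨t, ht⟩ := exists_iso_level f I h
  have e : PicGrp.pullHom (iq (thickToBase f I n) (lvl I m n)) (M2.pullMul _) c =
      PicGrp.pullHom t.hom (M2.pullMul _) (pt f I h c) := by
    rw [pt, ← PicGrp.pullHom_comp_apply _ _ _ _ (M2.pullMul _)]
    exact Subtype.ext (congrArg (fun g => PicF.pullCl g c.1) ht.symm)
  rw [e]
  exact (map_eq_one_iff _ (pullHom_injective_of_isIso t.hom (M2.pullMul _))).symm

theorem isNilpotent_lvl (m n : ℕ) : IsNilpotent (lvl I m n) :=
  ⟨n + 1, by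
    rw [← Ideal.map_pow]
    refine (Ideal.map_eq_bot_iff_le_ker _).2 ?_
    rw [Ideal.mk_ker, ← pow_mul]
    exact Ideal.pow_le_pow_right (Nat.le_mul_of_pos_left _ (Nat.succ_pos m))⟩

theorem pt_surjective {m n : ℕ} (h : m ≤ n) (hv : Van2 (thick f I n)) : Function.Surjective (pt f I h) := fun b => by
  obtain ⟨t, ht⟩ := exists_iso_level f I h
  obtain ⟨c, hc⟩ := surjective_pullHom_iq (thickToBase f I n) hv (isNilpotent_lvl I m n) (M2.pullMul _)
    (PicGrp.pullHom t.hom (M2.pullMul _) b)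
  refine ⟨c, pullHom_injective_of_isIso t.hom (M2.pullMul _) ?_⟩
  rw [← hc, pt, ← PicGrp.pullHom_comp_apply _ _ _ _ (M2.pullMul _)]
  exact Subtype.ext (congrArg (fun g => PicF.pullCl g c.1) ht)

omit [∀ n, PicGrp.Law (thick f I n)] in
theorem map_mk_pow (P : Ideal A) (p : A) (hI : I = Ideal.span {p}) (l : ℕ) :
    (I ^ l).map (Ideal.Quotient.mk P) = Ideal.span {Ideal.Quotient.mk P (p ^ l)} := by
  rw [hI, Ideal.span_singleton_pow, Ideal.map_span, Set.image_singleton]

theorem exists_pow_level (p : A) (hI : I = Ideal.span {p}) {i m : ℕ} (hm : 2 * i ≤ m) (q : ℕ) (hq : (q : A) = p ^ i)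
    (hv : Van2 (thick f I (m + 1))) (c : PicLoc.PicSet (thick f I (m + 1))) (hc : pt f I (Nat.le_succ m) c = 1) :
    ∃ d, d ^ q = c ∧ pt f I (show m - i ≤ m + 1 by omega) d = 1 := by
  let π := Ideal.Quotient.mk (I ^ (m + 1 + 1))
  have hzero : ∀ l, m + 1 + 1 ≤ l → π (p ^ l) = 0 := fun l hl => Ideal.Quotient.eq_zero_iff_mem.2 (by
    rw [hI, Ideal.span_singleton_pow]
    exact Ideal.mem_span_singleton.2 (pow_dvd_pow p hl))
  let s := π (p ^ (m - i + 1))
  have hs : s * s = 0 := by
    rw [← map_mul, ← pow_add]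
    exact hzero _ (by omega)
  have hJ : lvl I (m - i) (m + 1) = Ideal.span {s} := by
    exact map_mk_pow I _ p hI _
  have hJ' : lvl I m (m + 1) = Ideal.span {(q : A ⧸ I ^ (m + 1 + 1)) * s} := by
    rw [lvl, ← map_natCast π, ← map_mul, hq, ← pow_add, show i + (m - i + 1) = m + 1 by omega]
    exact map_mk_pow I _ p hI _
  rw [pt_eq_one_iff] at hc
  simp only [pt_eq_one_iff]
  revert hc
  generalize PicWittH7.lvl I m (m + 1) = J' at hJ' ⊢
  generalize PicWittH7.lvl I (m - i) (m + 1) = J at hJ ⊢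
  subst hJ hJ'
  intro hc
  exact exists_pow (thickToBase f I (m + 1)) hs hv q (M2.pullMul _) (M2.pullMul _) hc

end Groth.Agent.PicWittH7
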