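import Groth.Agent.Lib.FGA3.UnitsInduct
import Groth.Agent.Lib.TensorMod.PicLaw
import Groth.Agent.Lib.PicH1_21.Thickening

/-!
# Invertible classes along nilpotent thickenings of a space without cohomology in degree two
-/

set_option autoImplicit false
set_option linter.style.haveILetI false
set_option backward.isDefEq.respectTransparency false

universe u

open CategoryTheory CategoryTheory.Limits AlgebraicGeometry TopologicalSpace Opposite

noncomputable section

namespace Groth.Agent.PicWittH7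

open FGA3

/-- No abelian sheaf has cohomology in degree two. -/
abbrev Van2 (X : Scheme.{u}) : Prop := ∀ F : CohTop.Ab X.toTopCat, Subsingleton (CohFound.Hc F 2 ⊤)

variable {A : Type u} [CommRing A] {X : Scheme.{u}} (f : X ⟶ Spec (CommRingCat.of A))

theorem surjective_mp_of_epi (hv : Van2 X) {F G : CohTop.Ab X.toTopCat} (φ : F ⟶ G) [Epi φ] :
    Function.Surjective (CohFound.mp φ 1 ⊤) := fun y => by
  let S := ShortComplex.mk (kernel.ι φ) φ (kernel.condition _)
  have hS : S.ShortExact := { exact := ShortComplex.exact_of_f_is_kernel _ (kernelIsKernel _) }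
  haveI := hv S.X₁
  exact CohFound.exact₃ hS 1 ⊤ y (Subsingleton.elim _ _)

theorem mp_nsmul {F G : CohTop.Ab X.toTopCat} (φ : F ⟶ G) (q : ℕ) (x : CohFound.Hc F 1 ⊤) :
    CohFound.mp (q • φ) 1 ⊤ x = q • CohFound.mp φ 1 ⊤ x := by
  induction q with
  | zero => rw [zero_smul, zero_smul]; exact CohFound.mp_zero _ _ 1 ⊤ x
  | succ q ih => rw [succ_nsmul, succ_nsmul, CohFound.mp_add, ih]

theorem app_nsmul {F G : CohTop.Ab X.toTopCat} (φ : F ⟶ G) (q : ℕ) (U : X.Opens) (b : F.obj.obj (op U)) :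
    (q • φ).hom.app (op U) b = φ.hom.app (op U) (q • b) := by
  rw [map_nsmul]
  induction q with
  | zero => rw [zero_smul, zero_smul]; rfl
  | succ q ih => rw [succ_nsmul, succ_nsmul, ← ih]; rfl

variable {s : A} (hs : s * s = 0)

include hs in
theorem ψ_mul_self (U : X.Opens) : ψ f U s * ψ f U s = 0 := by rw [← map_mul, hs, map_zero]

/-- `b ↦ 1 + s b`. -/
def epsUnit (U : X.Opens) (b : Γ(X, U)) : Γ(X, U)ˣ where
  val := 1 + ψ f U s * b
  inv := 1 - ψ f U s * b
  val_inv := by linear_combination -(b * b) * ψ_mul_self f hs U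
  inv_val := by linear_combination -(b * b) * ψ_mul_self f hs U

/-- `O → O^×`, `b ↦ 1 + s b`. -/
def eps : Coh.toAb (Coh.structureModule X) ⟶ UnitsSh.unitsAb X :=
  ⟨{ app := fun U => AddCommGrpCat.ofHom
      { toFun := fun b => UnitsSh.sectOfUnit (O := X.presheaf) (epsUnit f hs U.unop b)
        map_zero' := congrArg Additive.ofMul (Units.ext (show (1 : Γ(X, U.unop)) +
          ψ f U.unop s * (0 : Γ(X, U.unop)) = 1 by rw [mul_zero, add_zero]))
        map_add' := fun a b => congrArg Additive.ofMul (Units.ext (show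
          (1 : Γ(X, U.unop)) + ψ f U.unop s * ((show Γ(X, U.unop) from a) + (show Γ(X, U.unop) from b)) =
            (1 + ψ f U.unop s * (show Γ(X, U.unop) from a)) * (1 + ψ f U.unop s * (show Γ(X, U.unop) from b)) by
            linear_combination -((show Γ(X, U.unop) from a) * (show Γ(X, U.unop) from b)) *
              ψ_mul_self f hs U.unop)) }
     naturality := fun U V k => by
      ext b
      refine congrArg Additive.ofMul (Units.ext ?_)
      show 1 + ψ f V.unop s * (X.presheaf.map k (show Γ(X, U.unop) from b)) =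
        X.presheaf.map k (1 + ψ f U.unop s * (show Γ(X, U.unop) from b))
      rw [map_add, map_one, map_mul, ← ψ_res f k.unop.le]
      rfl }⟩

theorem cJ_eps_eq_zero (J : Ideal A) (hJ : s ∈ J) (W : X.affineOpens) (b : Γ(X, W.1)) :
    (cJ f J).hom.app (op W.1) ((eps f hs).hom.app (op W.1) b) = 0 := by
  refine (cJ_eq_zero_iff f J W.1 _).2 ?_
  show (iq f J).app W.1 (1 + ψ f W.1 s * b - 1) = 0
  rw [add_sub_cancel_left, iq_app_eq_zero_iff]
  exact Ideal.mul_mem_right _ _ (Ideal.mem_map_of_mem _ hJ)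

theorem eps_comp_cJ (J : Ideal A) (hJ : s ∈ J) : eps f hs ≫ cJ f J = 0 := by
  apply Sheaf.hom_ext
  ext U b
  refine zero_of_locally fun W hW hWU => ?_
  rw [← NatTrans.naturality_apply (eps f hs ≫ cJ f J).hom (homOfLE hWU).op b]
  exact cJ_eps_eq_zero f hs J hJ ⟨W, hW⟩ _

include hs in
theorem nsmul_eps_comp_cJ (q : ℕ) :
    (q • eps f hs) ≫ cJ f (Ideal.span {(q : A) * s}) = 0 := by
  apply Sheaf.hom_ext
  ext U b
  refine zero_of_locally fun W hW hWU => ?_
  rw [← NatTrans.naturality_apply ((q • eps f hs) ≫ cJ f _).hom (homOfLE hWU).op b]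
  show (cJ f _).hom.app (op W) ((q • eps f hs).hom.app (op W) _) = 0
  rw [app_nsmul]
  refine (cJ_eq_zero_iff f _ W _).2 ?_
  show (iq f _).app W (1 + ψ f W s * (q • (_ : Γ(X, W))) - 1) = 0
  rw [add_sub_cancel_left, iq_app_eq_zero_iff f _ ⟨W, hW⟩, nsmul_eq_mul, ← mul_assoc, mul_comm (ψ f W s),
    ← map_natCast (ψ f W) q, ← map_mul]
  exact Ideal.mul_mem_right _ _ (Ideal.mem_map_of_mem _ (Ideal.mem_span_singleton_self _))

include hs in
theorem isNilpotent_span (a : A) : IsNilpotent (Ideal.span {a * s}) := by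
  refine ⟨2, ?_⟩
  rw [Ideal.span_singleton_pow, mul_pow, pow_two s, hs, mul_zero, Ideal.span_singleton_eq_bot.2 rfl]
  rfl

include hs in
/-- A class dying modulo `q s` is `q` times a class dying modulo `s`. -/
theorem exists_nsmul (hv : Van2 X) (q : ℕ) (x : CohFound.Hc (UnitsSh.unitsAb X) 1 ⊤)
    (hx : CohFound.mp (cJ f (Ideal.span {(q : A) * s})) 1 ⊤ x = 0) :
    ∃ y, q • y = x ∧ CohFound.mp (cJ f (Ideal.span {s})) 1 ⊤ y = 0 := by
  let J := Ideal.span {(q : A) * s}
  haveI := epi_cJ f (J := J) (isNilpotent_span hs _)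
  let S := ShortComplex.mk (kernel.ι (cJ f J)) (cJ f J) (kernel.condition _)
  have hS : S.ShortExact := { exact := ShortComplex.exact_of_f_is_kernel _ (kernelIsKernel _) }
  obtain ⟨z, hz⟩ := CohFound.exact₂ hS 1 ⊤ x hx
  let η := kernel.lift (cJ f J) (q • eps f hs) (nsmul_eps_comp_cJ f hs q)
  haveI : Epi η := by
    haveI : Mono (kernel.ι (cJ f J)) := inferInstance
    haveI : Sheaf.IsLocallySurjective η := ⟨fun {U} t x hxU => by
      obtain ⟨W, hW, hxW, hWU'⟩ := exists_isAffineOpen_mem_and_subset hxU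
      have hWU : W ≤ U := hWU'
      let t' := (kernel (cJ f J)).obj.map (homOfLE hWU).op t
      let u := (kernel.ι (cJ f J)).hom.app (op W) t'
      have hu : (cJ f J).hom.app (op W) u = 0 := congr($(kernel.condition (cJ f J)).hom.app (op W) t')
      have hmem := (iq_app_eq_zero_iff f J ⟨W, hW⟩ _).1 ((cJ_eq_zero_iff f J W u).1 hu)
      rw [Ideal.map_span, Set.image_singleton, Ideal.mem_span_singleton] at hmem
      obtain ⟨b, hb⟩ := hmem
      refine ⟨W, homOfLE hWU, ⟨b, ?_⟩, hxW⟩
      have hinj : Function.Injective ((kernel.ι (cJ f J)).hom.app (op W)) := by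
        haveI : Mono (kernel.ι (cJ f J)).hom :=
          inferInstanceAs (Mono ((sheafToPresheaf _ _).map (kernel.ι (cJ f J))))
        exact (AddCommGrpCat.mono_iff_injective _).1 inferInstance
      refine hinj ?_
      show (η ≫ kernel.ι (cJ f J)).hom.app (op W) b = u
      rw [kernel.lift_ι, app_nsmul]
      refine congrArg Additive.ofMul (Units.ext ?_)
      show 1 + ψ f W s * (q • b) = (UnitsSh.unitOfSect (O := X.presheaf) u).val
      rw [← add_sub_cancel 1 (UnitsSh.unitOfSect (O := X.presheaf) u).val, hb, nsmul_eq_mul, map_mul, map_natCast]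
      ring⟩
    exact (Sheaf.isLocallySurjective_iff_epi' _ η).1 inferInstance
  obtain ⟨b, hb⟩ := surjective_mp_of_epi hv η z
  refine ⟨CohFound.mp (eps f hs) 1 ⊤ b, ?_, ?_⟩
  · refine (mp_nsmul (eps f hs) q b).symm.trans (Eq.trans ?_ hz)
    subst hb
    refine Eq.trans ?_ (CohFound.mp_comp η (kernel.ι (cJ f J)) 1 ⊤ b)
    exact congrArg (fun φ => CohFound.mp φ 1 ⊤ b) (kernel.lift_ι _ _ _).symm
  · refine (CohFound.mp_comp (eps f hs) (cJ f _) 1 ⊤ b).symm.trans ?_
    refine (congrArg (fun φ => CohFound.mp φ 1 ⊤ b) (eps_comp_cJ f hs _ (Ideal.mem_span_singleton_self s))).trans ?_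
    exact CohFound.mp_zero _ _ 1 ⊤ b

section Pic

attribute [local instance] M2.law

variable [PicGrp.Law X]

theorem picEquiv_pullHom_iq (J : Ideal A) [PicGrp.Law (pullback f (spQ J))] (h : PicGrp.PullMul (iq f J))
    (c : PicLoc.PicSet X) :
    PicGrp.pullHom (iq f J) h c = 1 ↔
      CohFound.mp (cJ f J) 1 ⊤ (PicH1_21.picEquivId X (Additive.ofMul c)) = 0 := by
  have hG : PicH1_21.Good (iq f J) := PicH1_21.good_of_isEmbedding (iq f J).isClosedEmbedding
  refine Iff.trans ?_ (Iff.of_eq (congrArg (· = 0) (PicH1_21.picEquiv_pullHom hG h c)))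
  exact (map_eq_zero_iff _ (PicH1_21.picEquiv hG).injective).symm

theorem surjective_pullHom_iq (hv : Van2 X) {J : Ideal A} (hJ : IsNilpotent J) [PicGrp.Law (pullback f (spQ J))]
    (h : PicGrp.PullMul (iq f J)) : Function.Surjective (PicGrp.pullHom (iq f J) h) := fun b => by
  have hG : PicH1_21.Good (iq f J) := PicH1_21.good_of_isEmbedding (iq f J).isClosedEmbedding
  haveI := epi_cJ f hJ
  obtain ⟨z, hz⟩ := surjective_mp_of_epi hv (cJ f J) (PicH1_21.picEquiv hG (Additive.ofMul b))
  obtain ⟨c, rfl⟩ := (PicH1_21.picEquivId X).surjective z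
  refine ⟨Additive.toMul c, Additive.ofMul.injective ((PicH1_21.picEquiv hG).injective ?_)⟩
  rw [PicH1_21.picEquiv_pullHom hG h]
  exact hz

include hs in
theorem exists_pow (hv : Van2 X) (q : ℕ) [PicGrp.Law (pullback f (spQ (Ideal.span {(q : A) * s})))]
    [PicGrp.Law (pullback f (spQ (Ideal.span {s})))] (h : PicGrp.PullMul (iq f (Ideal.span {(q : A) * s})))
    (h' : PicGrp.PullMul (iq f (Ideal.span {s}))) {c : PicLoc.PicSet X}
    (hc : PicGrp.pullHom (iq f (Ideal.span {(q : A) * s})) h c = 1) :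
    ∃ d : PicLoc.PicSet X, d ^ q = c ∧ PicGrp.pullHom (iq f (Ideal.span {s})) h' d = 1 := by
  obtain ⟨y, hy, hy'⟩ := exists_nsmul f hs hv q _ ((picEquiv_pullHom_iq f _ h c).1 hc)
  obtain ⟨d, rfl⟩ := (PicH1_21.picEquivId X).surjective y
  rw [← map_nsmul] at hy
  exact ⟨Additive.toMul d, congrArg Additive.toMul ((PicH1_21.picEquivId X).injective hy),
    (picEquiv_pullHom_iq f _ h' (Additive.toMul d)).2 hy'⟩

end Pic

end Groth.Agent.PicWittH7
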